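import Groth.Prelude.Def_SGA7IX
import Groth.Agent.Sga3C.FlatHomog
import Groth.Agent.Ega43.FPOfComp
import Mathlib.AlgebraicGeometry.Morphisms.FlatMono
import Mathlib.AlgebraicGeometry.Morphisms.Etale

/-!
# A homomorphism of group schemes over a discrete valuation ring which is an isomorphism on generic
# fibres and flat at one point of the special fibre is an open immersion
-/

set_option autoImplicit false
universe u

open CategoryTheory CategoryTheory.Limits AlgebraicGeometry MonObj SGA7 MonoidalCategory
  CartesianMonoidalCategory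

namespace Groth.Agent.Sga7.H116.L1

open Groth.Agent.Sga3C.FlatPt Groth.Agent.Sga3C.GrpBasic Groth.Agent.Sga3C.FlatHomog

/-- Two morphisms to a separated scheme which agree after composition with a schematically dominant
morphism are equal. -/
theorem ext_of_schemeDominant {X Y Z S : Scheme.{u}} (q : Z ⟶ X) [IsSchemeTheoreticallyDominant q]
    (s : Y ⟶ S) [IsSeparated s] (f g : X ⟶ Y) (hs : f ≫ s = g ≫ s) (h : q ≫ f = q ≫ g) : f = g := by
  let X' : Over S := Over.mk (f ≫ s)
  let Y' : Over S := Over.mk s
  let f' : X' ⟶ Y' := Over.homMk f rfl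
  let g' : X' ⟶ Y' := Over.homMk g hs.symm
  let Z' : Over S := Over.mk (q ≫ f ≫ s)
  let q' : Z' ⟶ X' := Over.homMk q rfl
  have hY : IsSeparated Y'.hom := ‹IsSeparated s›
  have hq' : IsSchemeTheoreticallyDominant q'.left := ‹IsSchemeTheoreticallyDominant q›
  have hqq : q' ≫ f' = q' ≫ g' := by ext1; exact h
  obtain ⟨l, hl⟩ := Groth.Agent.Sga3C.SchemImage.exists_lift_over q' (𝟙 X') (equalizer.ι f' g')
    (equalizer.lift q' hqq) (by simp)
  have : f' = g' := by
    have h1 := congrArg (l ≫ ·) (equalizer.condition f' g')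
    simp only [← Category.assoc] at h1
    rwa [hl, Category.id_comp, Category.id_comp] at h1
  exact congrArg (fun t => t.left) this

section

variable (R K : Type u) [CommRing R] [IsDomain R] [Field K] [Algebra R K] [IsFractionRing R K]

/-- The inclusion of the generic point. -/
noncomputable abbrev gen : Spec (CommRingCat.of K) ⟶ Spec (CommRingCat.of R) :=
  Spec.map (CommRingCat.ofHom (algebraMap R K))

instance flat_gen : Flat (gen R K) := by
  rw [HasRingHomProperty.Spec_iff (P := @Flat)]
  change (algebraMap R K).Flat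
  rw [RingHom.flat_algebraMap_iff]
  exact IsLocalization.flat _ (nonZeroDivisors R)

instance isPreimmersion_gen : IsPreimmersion (gen R K) :=
  IsPreimmersion.of_isLocalization (nonZeroDivisors R)

instance isSchemeTheoreticallyDominant_gen : IsSchemeTheoreticallyDominant (gen R K) := by
  have : IsDominant (gen R K) := by
    constructor
    change DenseRange (PrimeSpectrum.comap (algebraMap R K))
    rw [PrimeSpectrum.denseRange_comap_iff_ker_le_nilRadical,
      (RingHom.injective_iff_ker_eq_bot _).mp (IsFractionRing.injective R K)]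
    exact bot_le
  exact .of_isDominant _

omit [IsDomain R] in
theorem exists_gen_eq (s : Spec (CommRingCat.of R)) (hs : s.asIdeal = ⊥) :
    ∃ z, gen R K z = s := by
  let z : Spec (CommRingCat.of K) := (⊥ : PrimeSpectrum K)
  refine ⟨z, ?_⟩
  apply PrimeSpectrum.ext
  rw [hs]
  change Ideal.comap (algebraMap R K) (⊥ : Ideal K) = ⊥
  rw [← RingHom.ker_eq_comap_bot]
  exact (RingHom.injective_iff_ker_eq_bot _).mp (IsFractionRing.injective R K)

/-- A flat morphism between schemes over `R` with separated source flat over `R` which is an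
isomorphism on generic fibres is a monomorphism. -/
theorem mono_of_flat_of_isIso_generic (G N : Over (Spec (CommRingCat.of R)))
    [Flat G.hom] [IsSeparated G.hom] (u : G ⟶ N) [Flat u.left] [IsIso ((SGA7.genFib R K).map u)] :
    Mono u.left := by
  have hw : u.left ≫ N.hom = G.hom := Over.w u
  let p1 : pullback u.left u.left ⟶ G.left := pullback.fst u.left u.left
  let p2 : pullback u.left u.left ⟶ G.left := pullback.snd u.left u.left
  have hp : p1 ≫ u.left = p2 ≫ u.left := pullback.condition
  have hps : p1 ≫ G.hom = p2 ≫ G.hom := by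
    rw [← hw, reassoc_of% hp]
  have hp1 : Flat p1 := inferInstanceAs (Flat (pullback.fst u.left u.left))
  have hfl : Flat (p1 ≫ G.hom) := inferInstance
  let γ := pullback.fst (p1 ≫ G.hom) (gen R K)
  have hγ : IsSchemeTheoreticallyDominant γ :=
    inferInstanceAs (IsSchemeTheoreticallyDominant (pullback.fst (p1 ≫ G.hom) (gen R K)))
  have key : p1 = p2 := by
    refine ext_of_schemeDominant γ G.hom p1 p2 hps ?_
    let a : pullback (p1 ≫ G.hom) (gen R K) ⟶ pullback G.hom (gen R K) :=
      pullback.lift (γ ≫ p1) (pullback.snd _ _) (by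
        rw [Category.assoc]; exact pullback.condition)
    let b : pullback (p1 ≫ G.hom) (gen R K) ⟶ pullback G.hom (gen R K) :=
      pullback.lift (γ ≫ p2) (pullback.snd _ _) (by
        rw [Category.assoc, ← hps]; exact pullback.condition)
    let v : pullback G.hom (gen R K) ⟶ pullback N.hom (gen R K) := ((SGA7.genFib R K).map u).left
    have hv : IsIso v := inferInstanceAs (IsIso ((Over.forget _).map ((SGA7.genFib R K).map u)))
    have hv1 : v ≫ pullback.fst _ _ = pullback.fst _ _ ≫ u.left := pullback.lift_fst _ _ _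
    have hv2 : v ≫ pullback.snd _ _ = pullback.snd _ _ := by
      refine (pullback.lift_snd _ _ _).trans ?_
      simp
    have hab : a ≫ v = b ≫ v := by
      apply pullback.hom_ext
      · rw [Category.assoc, Category.assoc, hv1, pullback.lift_fst_assoc, pullback.lift_fst_assoc,
          Category.assoc, Category.assoc, hp]
      · rw [Category.assoc, Category.assoc, hv2, pullback.lift_snd, pullback.lift_snd]
    have hab' : a = b := by rwa [cancel_mono] at hab
    have h1 : a ≫ pullback.fst _ _ = γ ≫ p1 := pullback.lift_fst _ _ _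
    have h2 : b ≫ pullback.fst _ _ = γ ≫ p2 := pullback.lift_fst _ _ _
    rw [← h1, ← h2, hab']
  constructor
  intro T a b h
  have h1 : pullback.lift a b h ≫ p1 = a := pullback.lift_fst _ _ _
  have h2 : pullback.lift a b h ≫ p2 = b := pullback.lift_snd _ _ _
  exact h1.symm.trans ((congrArg (pullback.lift a b h ≫ ·) key).trans h2)

omit [IsDomain R] in
/-- Points over the generic point: a morphism which is an isomorphism on generic fibres is flat
there. -/
theorem isFlatAt_of_generic (G N : Over (Spec (CommRingCat.of R)))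
    (u : G ⟶ N) [IsIso ((SGA7.genFib R K).map u)] (x : G.left) (hx : (G.hom x).asIdeal = ⊥) :
    IsFlatAt u.left x := by
  obtain ⟨z, hz⟩ := exists_gen_eq R K (G.hom x) hx
  obtain ⟨w, hw1, hw2⟩ := Scheme.Pullback.exists_preimage_pullback x z hz.symm
  let v : pullback G.hom (gen R K) ⟶ pullback N.hom (gen R K) := ((SGA7.genFib R K).map u).left
  have hv : IsIso v := inferInstanceAs (IsIso ((Over.forget _).map ((SGA7.genFib R K).map u)))
  have hv1 : v ≫ pullback.fst _ _ = pullback.fst _ _ ≫ u.left := pullback.lift_fst _ _ _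
  have h1 : IsFlatAt (pullback.fst G.hom (gen R K) ≫ u.left) w := by
    rw [← hv1]
    exact isFlatAt_of_flat _ _
  have := IsFlatAt.of_comp (isFlatAt_of_flat _ _) h1
  rwa [hw1] at this

/-- A homomorphism from a flat group scheme which is flat at one point is flat at every point over
the same point of the base. -/
theorem isFlatAt_of_isFlatAt_hom {S : Scheme.{u}} {G N : Over S} [GrpObj G] [GrpObj N] [Flat G.hom]
    (v : G ⟶ N) [IsMonHom v] (x y : G.left) (hxy : G.hom x = G.hom y) (hy : IsFlatAt v.left y) :
    IsFlatAt v.left x := by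
  refine isFlatAt_of_isFlatAt v (mulLeftShear v) ?_ x y hxy hy
  ext1
  · simp
  · have e1 : (mulLeftShear (𝟙 G)).hom ≫ snd G G ≫ v = (fst G G ≫ v) * (snd G G ≫ v) := by
      rw [← Category.assoc, mulLeftShear_hom_snd, Category.comp_id, MonObj.mul_comp]
    have e2 : (mulLeftShear v).hom ≫ snd G N = (fst G N ≫ v) * snd G N := mulLeftShear_hom_snd v
    rw [Category.assoc, Category.assoc, e2, comp_mul, whiskerLeft_fst_assoc, whiskerLeft_snd, e1]

end

/-- L1 of subtask 282 with flatness at one point in place of étaleness. -/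
theorem isOpenImmersion_of_isFlatAt (R K : Type u) [CommRing R] [IsDomain R]
    [IsDiscreteValuationRing R] [Field K] [Algebra R K]
    [IsFractionRing R K] (G N : Over (Spec (CommRingCat.of R))) [GrpObj G] [GrpObj N]
    [Flat G.hom] [IsSeparated G.hom] [LocallyOfFinitePresentation G.hom]
    [LocallyOfFiniteType N.hom] (u : G ⟶ N) [IsMonHom u] [IsIso ((SGA7.genFib R K).map u)]
    (g : ↥G.left) (hg : G.hom.base g = IsLocalRing.closedPoint R)
    (hU : IsFlatAt u.left g) :
    IsOpenImmersion u.left := by
  have hfl : Flat u.left := by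
    apply flat_of_forall_isFlatAt
    intro x
    by_cases hx : (G.hom x).asIdeal = ⊥
    · exact isFlatAt_of_generic R K G N u x hx
    · refine isFlatAt_of_isFlatAt_hom u x g ?_ hU
      refine Eq.trans ?_ hg.symm
      apply PrimeSpectrum.ext
      have h1 : (G.hom x).asIdeal.IsPrime := (G.hom x).isPrime
      have h2 : (G.hom x).asIdeal.IsMaximal := Ring.DimensionLEOne.maximalOfPrime hx h1
      exact IsLocalRing.eq_maximalIdeal h2
  have hm : Mono u.left := mono_of_flat_of_isIso_generic R K G N u
  have hw : u.left ≫ N.hom = G.hom := Over.w u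
  have h3 : LocallyOfFinitePresentation (u.left ≫ N.hom) := by rw [hw]; infer_instance
  have h4 : LocallyOfFinitePresentation u.left :=
    Ega43.FPOfComp.locallyOfFinitePresentation_of_comp u.left N.hom
  exact IsOpenImmersion.of_flat_of_mono u.left

/-- L1 of subtask 282. -/
theorem isOpenImmersion_of_etale (R K : Type u) [CommRing R] [IsDomain R] [IsDiscreteValuationRing R] [Field K]
    [Algebra R K] [IsFractionRing R K] (G N : Over (Spec (CommRingCat.of R))) [GrpObj G] [GrpObj N]
    [Flat G.hom] [IsSeparated G.hom] [LocallyOfFinitePresentation G.hom]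
    [Smooth N.hom] (u : G ⟶ N) [IsMonHom u] [IsIso ((SGA7.genFib R K).map u)]
    (g : ↥G.left) (hg : G.hom.base g = IsLocalRing.closedPoint R)
    (U : G.left.Opens) (hgU : g ∈ U) (hU : Etale (U.ι ≫ u.left)) :
    IsOpenImmersion u.left := by
  have h0 : Flat (U.ι ≫ u.left) := inferInstance
  have h1 : IsFlatAt (U.ι ≫ u.left) ⟨g, hgU⟩ := isFlatAt_of_flat _ _
  have h2 : IsFlatAt u.left (U.ι ⟨g, hgU⟩) :=
    IsFlatAt.of_comp (isFlatAt_of_flat U.ι ⟨g, hgU⟩) h1
  have h3 : U.ι ⟨g, hgU⟩ = g := rfl
  rw [h3] at h2
  exact isOpenImmersion_of_isFlatAt R K G N u g hg h2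

end Groth.Agent.Sga7.H116.L1
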